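/-
The tree of the search over the normal forms of a Sylow 3-subgroup of `PΩ⁺(8, 3)` inside the explicit `Fi23`.
Generated by tools/fischer/r3/o8/gen_o8b.py.
-/
import Mathlib
import Cfsg.Agent.Lib.Fischer.M23.R3.O8Chk

set_option autoImplicit false
set_option maxRecDepth 100000

namespace Cfsg.Agent.Lib.Fischer.M23.R3.O8C

open Cfsg.Agent.Lib.Fischer.M23.Explicit Cfsg.Agent.Lib.Fischer.M23.Rows

open CT in
/-- A part of the tree. -/
def Tr5 : CT := (split (split (split (split (split (split (split leaf leaf leaf) (merge 54 27 leaf) (merge 27 54 leaf)) (merge 2 1 (merge 54 27 leaf)) (merge 1 2 (merge 27 54 leaf))) (split (merge 6 3 (merge 243 486 leaf)) (merge 2 1 (merge 54 27 leaf)) (merge 1 2 (merge 27 54 leaf))) (split (merge 3 6 (merge 486 243 leaf)) (merge 2 1 (merge 54 27 leaf)) (merge 1 2 (merge 27 54 leaf)))) (split (split (merge 2 1 (merge 54 27 leaf)) (merge 1 2 (merge 27 54 leaf)) (merge 3 6 (merge 243 486 leaf))) (split (merge 2 1 (merge 54 27 leaf)) (merge 1 2 (merge 27 54 leaf)) (merge 9 18 (merge 486 243 leaf))) (split (merge 2 1 (merge 54 27 leaf)) (merge 1 2 (merge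 27 54 leaf)) (merge 6 3 (merge 1458 729 leaf)))) (split (split (merge 1 2 (merge 27 54 leaf)) (merge 6 3 (merge 486 243 leaf)) (merge 2 1 (merge 54 27 leaf))) (split (merge 1 2 (merge 27 54 leaf)) (merge 3 6 (merge 729 1458 leaf)) (merge 2 1 (merge 54 27 leaf))) (split (merge 1 2 (merge 27 54 leaf)) (merge 18 9 (merge 243 486 leaf)) (merge 2 1 (merge 54 27 leaf))))) (merge 1 2 (merge 3 6 (merge 18 9 (split (merge 27 54 leaf) (merge 486 243 leaf) (merge 54 27 leaf))))) (merge 2 1 (merge 6 3 (merge 9 18 (split (merge 54 27 leaf) (merge 27 54 leaf) (merge 243 486 leaf)))))) (split (merge 6 3 (merge 1 2 (split (split (merge 27 54 leaf) (merge 729 1458 leaf) (merge 54 27 leaf)) (merge 54686 295264 (merge 81 162 leaf)) (merge 295264 54686 (merge 54 27 leaf))))) (merge 1 2 (merge 9 18 (split (split (merge 54 27 leaf) (merge 27 54 leaf) (merge 486 243 leaf)) (merge 2204 236218 (merge 27 54 leaf)) (merge 236218 2204 (merge 162 81 leaf))))) (merge 2 1 (merge 9 18 (split (merge 472397 7 (merge 243 486 leaf)) (merge 7 472397 (merge 54 27 leaf)) (split (merge 27 54 leaf) (merge 162 81 leaf)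 (merge 54 27 leaf)))))) (split (merge 3 6 (merge 2 1 (split (split (merge 54 27 leaf) (merge 27 54 leaf) (merge 1458 729 leaf)) (merge 54686 295264 (merge 27 54 leaf)) (merge 295264 54686 (merge 162 81 leaf))))) (merge 1 2 (merge 18 9 (split (merge 7 472397 (merge 486 243 leaf)) (split (merge 54 27 leaf) (merge 27 54 leaf) (merge 81 162 leaf)) (merge 472397 7 (merge 27 54 leaf))))) (merge 2 1 (merge 18 9 (split (split (merge 27 54 leaf) (merge 243 486 leaf) (merge 54 27 leaf)) (merge 2204 236218 (merge 81 162 leaf)) (merge 236218 2204 (merge 54 27 leaf)))))))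

theorem Tr5_ok : chk 12 W1 FF1 lf1 Tr5 5 0 = true := by decide +kernel

open CT in
/-- A part of the tree. -/
def Tr6 : CT := (split (split (merge 6 3 (merge 229647 236220 (split (split (merge 54 27 leaf) (merge 27 54 leaf) (merge 4374 2187 leaf)) (merge 2 1 (merge 27 54 leaf)) (merge 1 2 (merge 162 81 leaf))))) (merge 1 2 (merge 8 236200 (merge 295264 54686 (split (merge 486 243 leaf) (merge 54 27 leaf) (merge 27 54 leaf))))) (merge 2 1 (split (merge 7 472397 (merge 472416 170598 (merge 27 54 leaf))) (merge 7 472397 (merge 170598 472416 (merge 27 54 leaf))) (merge 7 472397 (split (merge 27 54 leaf) (merge 2187 4374 leaf) (merge 54 27 leaf)))))) (split (merge 3 6 (merge 1 2 (merge 295267 356498 (split (merge 729 1458 leaf) (merge 54 27 leaf) (merge 27 54 leaf))))) (merge 1 2 (split (merge 7 472397 (split (merge 27 54 leaf) (merge 486 243 leaf) (merge 54 27 leaf))) (merge 7 472397 (merge 85308 236217 (merge 27 54 leaf))) (merge 7 472397 (merge 236217 85308 (merge 27 54 leaf))))) (merge 2 1 (merge 413363 30628 (split (merge 236200 8 (merge 54 27 leaf)) (split (merge 27 54 leaf) (merge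 81 162 leaf) (merge 54 27 leaf)) (merge 8 236200 (merge 162 81 leaf)))))) (split (merge 9 18 (merge 2 1 (merge 7 472397 (split (merge 27 54 leaf) (merge 1458 729 leaf) (merge 54 27 leaf))))) (merge 1 2 (split (merge 295264 54686 (merge 6 3 (merge 54 27 leaf))) (merge 295264 54686 (merge 3 6 (merge 54 27 leaf))) (merge 295264 54686 (split (merge 54 27 leaf) (merge 27 54 leaf) (merge 243 486 leaf))))) (merge 2 1 (merge 3 6 (split (split (merge 243 486 leaf) (merge 54 27 leaf) (merge 27 54 leaf)) (merge 118121 411172 (merge 54 27 leaf)) (merge 411172 118121 (merge 27 54 leaf)))))))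

theorem Tr6_ok : chk 12 W1 FF1 lf1 Tr6 5 81 = true := by decide +kernel

open CT in
/-- A part of the tree. -/
def Tr7 : CT := (split (split (merge 3 6 (merge 236220 229647 (split (split (merge 27 54 leaf) (merge 2187 4374 leaf) (merge 54 27 leaf)) (merge 2 1 (merge 81 162 leaf)) (merge 1 2 (merge 54 27 leaf))))) (merge 1 2 (split (merge 472397 7 (merge 170598 472416 (merge 54 27 leaf))) (merge 472397 7 (split (merge 54 27 leaf) (merge 27 54 leaf) (merge 4374 2187 leaf))) (merge 472397 7 (merge 472416 170598 (merge 54 27 leaf))))) (merge 2 1 (merge 236200 8 (merge 54686 295264 (split (merge 243 486 leaf) (merge 54 27 leaf) (merge 27 54 leaf)))))) (split (merge 18 9 (merge 1 2 (merge 472397 7 (split (merge 54 27 leaf) (merge 27 54 leaf) (merge 729 1458 leaf))))) (merge 1 2 (merge 6 3 (split (split (merge 486 243 leaf) (merge 54 27 leaf) (merge 27 54 leaf)) (merge 118121 411172 (merge 54 27 leaf)) (merge 411172 118121 (merge 27 54 leaf))))) (merge 2 1 (split (merge 54686 295264 (merge 3 6 (merge 27 54 leaf))) (merge 54686 295264 (split (merge 27 54 leaf) (merge 486 243 leaf) (merge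 54 27 leaf))) (merge 54686 295264 (merge 6 3 (merge 27 54 leaf)))))) (split (merge 6 3 (merge 2 1 (merge 356498 295267 (split (merge 1458 729 leaf) (merge 54 27 leaf) (merge 27 54 leaf))))) (merge 1 2 (merge 30628 413363 (split (merge 8 236200 (merge 27 54 leaf)) (merge 236200 8 (merge 81 162 leaf)) (split (merge 54 27 leaf) (merge 27 54 leaf) (merge 162 81 leaf))))) (merge 2 1 (split (merge 472397 7 (split (merge 54 27 leaf) (merge 27 54 leaf) (merge 243 486 leaf))) (merge 472397 7 (merge 85308 236217 (merge 54 27 leaf))) (merge 472397 7 (merge 236217 85308 (merge 54 27 leaf)))))))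

theorem Tr7_ok : chk 12 W1 FF1 lf1 Tr7 5 162 = true := by decide +kernel

/-- A part of the tree. -/
def Tr4 : CT := CT.split Tr5 Tr6 Tr7

theorem Tr4_ok : chk 12 W1 FF1 lf1 Tr4 4 0 = true :=
  chk_split (by decide) (by decide) (by decide) Tr5_ok Tr6_ok Tr7_ok

open CT in
/-- A part of the tree. -/
def Tr8 : CT := (merge 2 1 (merge 6 3 (merge 18 9 (split (split (split (split (merge 81 162 leaf) (merge 54 27 leaf) (merge 27 54 leaf)) (split (merge 54 27 leaf) (merge 27 54 leaf) (merge 162 81 leaf)) (split (merge 27 54 leaf) (merge 486 243 leaf) (merge 54 27 leaf))) (split (split (merge 81 162 leaf) (merge 54 27 leaf) (merge 27 54 leaf)) (split (merge 54 27 leaf) (merge 27 54 leaf) (merge 162 81 leaf)) (split (merge 27 54 leaf) (merge 1458 729 leaf) (merge 54 27 leaf))) (split (split (merge 81 162 leaf) (merge 54 27 leaf) (merge 27 54 leaf)) (split (merge 54 27 leaf) (merge 27 54 leaf) (merge 162 81 leaf)) (split (merge 27 54 leaf) (merge 243 486 leaf) (merge 54 27 leaf)))) (split (split (split (merge 54 27 leaf) (merge 27 54 leaf) (merge 162 81 leaf)) (split (merge 27 54 leaf) (merge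 729 1458 leaf) (merge 54 27 leaf)) (split (merge 81 162 leaf) (merge 54 27 leaf) (merge 27 54 leaf))) (split (split (merge 54 27 leaf) (merge 27 54 leaf) (merge 162 81 leaf)) (split (merge 27 54 leaf) (merge 243 486 leaf) (merge 54 27 leaf)) (split (merge 81 162 leaf) (merge 54 27 leaf) (merge 27 54 leaf))) (split (split (merge 54 27 leaf) (merge 27 54 leaf) (merge 162 81 leaf)) (split (merge 27 54 leaf) (merge 486 243 leaf) (merge 54 27 leaf)) (split (merge 81 162 leaf) (merge 54 27 leaf) (merge 27 54 leaf)))) (split (split (split (merge 27 54 leaf) (merge 243 486 leaf) (merge 54 27 leaf)) (split (merge 81 162 leaf) (merge 54 27 leaf) (merge 27 54 leaf)) (split (merge 54 27 leaf) (merge 27 54 leaf) (merge 162 81 leaf))) (split (split (merge 27 54 leaf) (merge 486 243 leaf) (merge 54 27 leaf)) (split (merge 81 162 leaf) (merge 54 27 leaf) (merge 27 54 leaf)) (split (merge 54 27 leaf) (merge 27 54 leaf) (merge 162 81 leaf))) (split (split (merge 27 54 leaf) (merge 2187 4374 leaf) (merge 54 27 leaf)) (split (merge 81 162 leaf) (merge 54 27 leaf) (merge 27 54 leaf)) (split (merge 54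 27 leaf) (merge 27 54 leaf) (merge 162 81 leaf))))))))

theorem Tr8_ok : chk 12 W1 FF1 lf1 Tr8 4 27 = true := by decide +kernel

open CT in
/-- A part of the tree. -/
def Tr9 : CT := (merge 1 2 (merge 3 6 (merge 9 18 (split (split (split (split (merge 162 81 leaf) (merge 54 27 leaf) (merge 27 54 leaf)) (split (merge 54 27 leaf) (merge 27 54 leaf) (merge 243 486 leaf)) (split (merge 27 54 leaf) (merge 81 162 leaf) (merge 54 27 leaf))) (split (split (merge 162 81 leaf) (merge 54 27 leaf) (merge 27 54 leaf)) (split (merge 54 27 leaf) (merge 27 54 leaf) (merge 486 243 leaf)) (split (merge 27 54 leaf) (merge 81 162 leaf) (merge 54 27 leaf))) (split (split (merge 162 81 leaf) (merge 54 27 leaf) (merge 27 54 leaf)) (split (merge 54 27 leaf) (merge 27 54 leaf) (merge 729 1458 leaf)) (split (merge 27 54 leaf) (merge 81 162 leaf) (merge 54 27 leaf)))) (split (split (split (merge 54 27 leaf) (merge 27 54 leaf) (merge 486 243 leaf)) (split (merge 27 54 leaf) (merge 81 162 leaf) (merge 54 27 leaf)) (split (merge 162 81 leaf) (merge 54 27 leaf) (merge 27 54 leaf))) (split (split (merge 54 27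 leaf) (merge 27 54 leaf) (merge 4374 2187 leaf)) (split (merge 27 54 leaf) (merge 81 162 leaf) (merge 54 27 leaf)) (split (merge 162 81 leaf) (merge 54 27 leaf) (merge 27 54 leaf))) (split (split (merge 54 27 leaf) (merge 27 54 leaf) (merge 243 486 leaf)) (split (merge 27 54 leaf) (merge 81 162 leaf) (merge 54 27 leaf)) (split (merge 162 81 leaf) (merge 54 27 leaf) (merge 27 54 leaf)))) (split (split (split (merge 27 54 leaf) (merge 81 162 leaf) (merge 54 27 leaf)) (split (merge 162 81 leaf) (merge 54 27 leaf) (merge 27 54 leaf)) (split (merge 54 27 leaf) (merge 27 54 leaf) (merge 1458 729 leaf))) (split (split (merge 27 54 leaf) (merge 81 162 leaf) (merge 54 27 leaf)) (split (merge 162 81 leaf) (merge 54 27 leaf) (merge 27 54 leaf)) (split (merge 54 27 leaf) (merge 27 54 leaf) (merge 243 486 leaf))) (split (split (merge 27 54 leaf) (merge 81 162 leaf) (merge 54 27 leaf)) (split (merge 162 81 leaf) (merge 54 27 leaf) (merge 27 54 leaf)) (split (merge 54 27 leaf) (merge 27 54 leaf) (merge 486 243 leaf))))))))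

theorem Tr9_ok : chk 12 W1 FF1 lf1 Tr9 4 54 = true := by decide +kernel

/-- A part of the tree. -/
def Tr3 : CT := CT.split Tr4 Tr8 Tr9

theorem Tr3_ok : chk 12 W1 FF1 lf1 Tr3 3 0 = true :=
  chk_split (by decide) (by decide) (by decide) Tr4_ok Tr8_ok Tr9_ok

open CT in
/-- A part of the tree. -/
def Tr10 : CT := (split (split (split (merge 27 54 (merge 2 1 (merge 6 3 (merge 729 1458 (merge 4374 2187 (split leaf leaf leaf)))))) (merge 27 54 (merge 2 1 (merge 9 18 (merge 729 1458 (merge 4374 2187 (split prune prune prune)))))) (merge 27 54 (merge 2 1 (merge 18 9 (merge 729 1458 (merge 4374 2187 (split prune prune prune))))))) (split (merge 27 54 (merge 2 1 (merge 486 243 (merge 729 1458 (split prune prune prune))))) (merge 27 54 (merge 2 1 (merge 486 243 (merge 729 1458 (split prune prune prune))))) (merge 27 54 (merge 2 1 (merge 3 6 (merge 729 1458 (split prune prune prune)))))) (split (merge 27 54 (merge 2 1 (merge 486 243 (merge 729 1458 (split prune prune prune))))) (merge 27 54 (merge 2 1 (merge 486 243 (merge 729 1458 (split prune prune prune))))) (merge 27 54 (merge 2 1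 (merge 486 243 (merge 729 1458 (split prune prune prune))))))) (merge 2 1 (merge 6 3 (merge 18 9 (merge 162 81 (merge 486 243 (split prune prune prune)))))) (merge 1 2 (merge 3 6 (merge 9 18 (merge 162 81 (merge 486 243 (split prune prune prune)))))))

theorem Tr10_ok : chk 12 W1 FF1 lf1 Tr10 3 9 = true := by decide +kernel

open CT in
/-- A part of the tree. -/
def Tr11 : CT := (split (split (split (merge 54 27 (merge 1 2 (merge 3 6 (merge 1458 729 (merge 2187 4374 (split leaf leaf leaf)))))) (merge 54 27 (merge 1 2 (merge 9 18 (merge 1458 729 (merge 2187 4374 (split prune prune prune)))))) (merge 54 27 (merge 1 2 (merge 18 9 (merge 1458 729 (merge 2187 4374 (split prune prune prune))))))) (split (merge 54 27 (merge 1 2 (merge 243 486 (merge 1458 729 (split prune prune prune))))) (merge 54 27 (merge 1 2 (merge 243 486 (merge 1458 729 (split prune prune prune))))) (merge 54 27 (merge 1 2 (merge 243 486 (merge 1458 729 (split prune prune prune)))))) (split (merge 54 27 (merge 1 2 (merge 243 486 (merge 1458 729 (split prune prune prune))))) (merge 54 27 (merge 1 2 (merge 6 3 (merge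 1458 729 (split prune prune prune))))) (merge 54 27 (merge 1 2 (merge 243 486 (merge 1458 729 (split prune prune prune))))))) (merge 2 1 (merge 6 3 (merge 18 9 (merge 81 162 (merge 243 486 (split prune prune prune)))))) (merge 1 2 (merge 3 6 (merge 9 18 (merge 81 162 (merge 243 486 (split prune prune prune)))))))

theorem Tr11_ok : chk 12 W1 FF1 lf1 Tr11 3 18 = true := by decide +kernel

/-- A part of the tree. -/
def Tr2 : CT := CT.split Tr3 Tr10 Tr11

theorem Tr2_ok : chk 12 W1 FF1 lf1 Tr2 2 0 = true :=
  chk_split (by decide) (by decide) (by decide) Tr3_ok Tr10_ok Tr11_ok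

open CT in
/-- A part of the tree. -/
def Tr12 : CT := (split (split (split (merge 27 54 (split (merge 81 162 (merge 9 18 (split (merge 1 2 (split leaf leaf leaf)) (merge 4374 2187 (merge 238968 389700 leaf)) (merge 2 1 (merge 177563 413929 leaf))))) (merge 1 2 (merge 3 6 (merge 236217 85308 (split prune prune prune)))) (merge 2 1 (merge 6 3 (merge 229647 236220 (split prune prune prune)))))) (merge 27 54 (split (merge 6 3 (merge 1458 729 (merge 309120 231105 (merge 1 2 (merge 39366 19683 leaf))))) (merge 1 2 (merge 1458 729 (merge 1541 468910 (split prune prune prune)))) (merge 2 1 (merge 1458 729 (merge 1540 326756 (split prune prune prune)))))) (merge 27 54 (split (merge 3 6 (merge 1458 729 (merge 229647 236220 (merge 1 2 (merge 19683 39366 leaf))))) (merge 1 2 (merge 1458 729 (merge 1541 468910 (split prune prune prune)))) (merge 2 1 (merge 1458 729 (merge 1540 326756 (split prune prune prune))))))) (merge 2 1 (merge 6 3 (merge 18 9 (split prune prune prune)))) (merge 1 2 (merge 3 6 (merge 9 18 (split prune prune prune))))) (split (split (merge 27 54 (split (merge 2 1 (merge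 6 3 (merge 354782 183952 (split prune prune prune)))) (merge 243 486 (merge 9 18 (split (merge 2 1 (split leaf leaf leaf)) (merge 1 2 (merge 30710 181 leaf)) (merge 2187 4374 (merge 356661 52578 leaf))))) (merge 1 2 (merge 3 6 (merge 177634 367661 (split prune prune prune)))))) (merge 27 54 (split (merge 2 1 (merge 162 81 (merge 7 472397 (merge 2187 4374 (merge 39366 19683 leaf))))) (merge 6 3 (merge 162 81 (merge 274029 44067 (split prune prune prune)))) (merge 1 2 (merge 162 81 (merge 177634 367661 (split prune prune prune)))))) (merge 27 54 (split (merge 2 1 (merge 162 81 (merge 354782 183952 (split prune prune prune)))) (merge 3 6 (merge 162 81 (merge 48765 494592 (split prune prune prune)))) (merge 1 2 (merge 162 81 (merge 472397 7 (merge 2187 4374 (merge 19683 39366 leaf)))))))) (merge 2 1 (merge 6 3 (merge 18 9 (split prune prune prune)))) (merge 1 2 (merge 3 6 (merge 9 18 (split prune prune prune))))) (split (split (merge 27 54 (split (merge 1 2 (merge 3 6 (merge 473856 381270 (split prune prune prune)))) (merge 2 1 (merge 6 3 (merge 236220 229647 (split prune prune prune))))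 (merge 162 81 (merge 9 18 (split (merge 2 1 (merge 83448 59706 leaf)) (merge 1 2 (merge 59706 83448 leaf)) (merge 6561 13122 (split leaf leaf leaf))))))) (merge 27 54 (split (merge 1 2 (merge 1458 729 (merge 326756 1540 (split prune prune prune)))) (merge 2 1 (merge 1458 729 (merge 468910 1541 (split prune prune prune)))) (merge 6 3 (merge 1458 729 (merge 118590 398280 (merge 2 1 (merge 4374 2187 leaf))))))) (merge 27 54 (split (merge 1 2 (merge 1458 729 (merge 326756 1540 (split prune prune prune)))) (merge 2 1 (merge 1458 729 (merge 468910 1541 (split prune prune prune)))) (merge 3 6 (merge 1458 729 (merge 236220 229647 (merge 2 1 (merge 2187 4374 leaf)))))))) (merge 2 1 (merge 6 3 (merge 18 9 (split prune prune prune)))) (merge 1 2 (merge 3 6 (merge 9 18 (split prune prune prune))))))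

theorem Tr12_ok : chk 12 W1 FF1 lf1 Tr12 2 3 = true := by decide +kernel

open CT in
/-- A part of the tree. -/
def Tr13 : CT := (split (split (split (merge 54 27 (split (merge 162 81 (merge 18 9 (split (merge 2 1 (split leaf leaf leaf)) (merge 1 2 (merge 413929 177563 leaf)) (merge 2187 4374 (merge 389700 238968 leaf))))) (merge 1 2 (merge 3 6 (merge 236220 229647 (split prune prune prune)))) (merge 2 1 (merge 6 3 (merge 85308 236217 (split prune prune prune)))))) (merge 54 27 (split (merge 6 3 (merge 729 1458 (merge 236220 229647 (merge 2 1 (merge 39366 19683 leaf))))) (merge 1 2 (merge 729 1458 (merge 326756 1540 (split prune prune prune)))) (merge 2 1 (merge 729 1458 (merge 468910 1541 (split prune prune prune)))))) (merge 54 27 (split (merge 3 6 (merge 729 1458 (merge 231105 309120 (merge 2 1 (merge 19683 39366 leaf))))) (merge 1 2 (merge 729 1458 (merge 326756 1540 (split prune prune prune)))) (merge 2 1 (merge 729 1458 (merge 468910 1541 (split prune prune prune))))))) (merge 2 1 (merge 6 3 (merge 18 9 (split prune prune prune)))) (merge 1 2 (merge 3 6 (merge 9 18 (split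 prune prune prune))))) (split (split (merge 54 27 (split (merge 2 1 (merge 6 3 (merge 381270 473856 (split prune prune prune)))) (merge 81 162 (merge 18 9 (split (merge 13122 6561 (split leaf leaf leaf)) (merge 2 1 (merge 83448 59706 leaf)) (merge 1 2 (merge 59706 83448 leaf))))) (merge 1 2 (merge 3 6 (merge 229647 236220 (split prune prune prune)))))) (merge 54 27 (split (merge 2 1 (merge 729 1458 (merge 1540 326756 (split prune prune prune)))) (merge 6 3 (merge 729 1458 (merge 229647 236220 (merge 13122 6561 (merge 4374 2187 leaf))))) (merge 1 2 (merge 729 1458 (merge 1541 468910 (split prune prune prune)))))) (merge 54 27 (split (merge 2 1 (merge 729 1458 (merge 1540 326756 (split prune prune prune)))) (merge 3 6 (merge 729 1458 (merge 398280 118590 (merge 13122 6561 (merge 2187 4374 leaf))))) (merge 1 2 (merge 729 1458 (merge 1541 468910 (split prune prune prune))))))) (merge 2 1 (merge 6 3 (merge 18 9 (split prune prune prune)))) (merge 1 2 (merge 3 6 (merge 9 18 (split prune prune prune))))) (split (split (merge 54 27 (split (merge 1 2 (merge 3 6 (merge 183952 354782 (split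 prune prune prune)))) (merge 2 1 (merge 6 3 (merge 367661 177634 (split prune prune prune)))) (merge 486 243 (merge 18 9 (split (merge 4374 2187 (merge 52578 356661 leaf)) (merge 2 1 (merge 181 30710 leaf)) (merge 1 2 (split leaf leaf leaf))))))) (merge 54 27 (split (merge 1 2 (merge 81 162 (merge 183952 354782 (split prune prune prune)))) (merge 2 1 (merge 81 162 (merge 7 472397 (merge 4374 2187 (merge 39366 19683 leaf))))) (merge 6 3 (merge 81 162 (merge 494592 48765 (split prune prune prune)))))) (merge 54 27 (split (merge 1 2 (merge 81 162 (merge 472397 7 (merge 4374 2187 (merge 19683 39366 leaf))))) (merge 2 1 (merge 81 162 (merge 367661 177634 (split prune prune prune)))) (merge 3 6 (merge 81 162 (merge 44067 274029 (split prune prune prune))))))) (merge 2 1 (merge 6 3 (merge 18 9 (split prune prune prune)))) (merge 1 2 (merge 3 6 (merge 9 18 (split prune prune prune))))))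

theorem Tr13_ok : chk 12 W1 FF1 lf1 Tr13 2 6 = true := by decide +kernel

/-- A part of the tree. -/
def Tr1 : CT := CT.split Tr2 Tr12 Tr13

theorem Tr1_ok : chk 12 W1 FF1 lf1 Tr1 1 0 = true :=
  chk_split (by decide) (by decide) (by decide) Tr2_ok Tr12_ok Tr13_ok

open CT in
/-- A part of the tree. -/
def Tr15 : CT := (split (split (merge 27 54 (split (split (merge 9 18 (merge 486 243 (split (merge 6 3 (split leaf leaf leaf)) (merge 2 1 (merge 81 162 leaf)) (merge 1 2 (merge 162 81 leaf))))) (merge 1 2 (merge 3 6 (merge 295264 54686 (merge 2187 4374 (split prune prune prune))))) (merge 2 1 (merge 6 3 (merge 30628 413363 (merge 2187 4374 (split prune prune prune)))))) (split (merge 6 3 (merge 1 2 (merge 229647 236220 (merge 2187 4374 (split prune prune prune))))) (merge 1 2 (merge 486 243 (merge 523187 236443 (merge 2187 4374 (merge 13122 6561 leaf))))) (merge 2 1 (merge 486 243 (merge 31114 65873 (merge 2187 4374 (merge 13122 6561 leaf)))))) (split (merge 3 6 (merge 2 1 (merge 178613 416263 (merge 2187 4374 (split prune prune prune))))) (merge 1 2 (merge 486 243 (merge 295264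 54686 (merge 2187 4374 (merge 6561 13122 leaf))))) (merge 2 1 (merge 486 243 (merge 236686 271439 (merge 2187 4374 (merge 6561 13122 leaf)))))))) (merge 2 1 (merge 6 3 (merge 18 9 (merge 1458 729 (merge 486 243 (split (merge 2187 4374 (merge 81 162 leaf)) (merge 2187 4374 (split prune prune prune)) (merge 2187 4374 (split prune prune prune)))))))) (merge 1 2 (merge 3 6 (merge 9 18 (merge 1458 729 (merge 486 243 (split (merge 2187 4374 (merge 162 81 leaf)) (merge 2187 4374 (split prune prune prune)) (merge 2187 4374 (split prune prune prune))))))))) (split (merge 27 54 (split (split (merge 2 1 (merge 6 3 (merge 118590 398280 (split prune prune prune)))) (merge 9 18 (merge 243 486 (merge 413523 54765 (merge 1 2 (split leaf leaf leaf))))) (merge 1 2 (merge 3 6 (merge 54686 295264 (split prune prune prune))))) (split (merge 2 1 (merge 243 486 (merge 503984 15067 (split prune prune prune)))) (merge 6 3 (merge 1 2 (merge 166 166301 (merge 19683 39366 (split prune prune prune))))) (merge 1 2 (merge 243 486 (merge 271439 236686 (split prune prune prune))))) (split (merge 2 1 (merge 243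 486 (merge 236443 523187 (split prune prune prune)))) (merge 3 6 (merge 2 1 (merge 170 391558 (merge 19683 39366 (split prune prune prune))))) (merge 1 2 (merge 243 486 (merge 54686 295264 (split prune prune prune))))))) (merge 2 1 (merge 6 3 (merge 18 9 (split prune prune prune)))) (merge 1 2 (merge 3 6 (merge 9 18 (split prune prune prune))))) (split (merge 27 54 (split (split (merge 1 2 (merge 3 6 (merge 178607 114454 (split prune prune prune)))) (merge 2 1 (merge 6 3 (merge 413363 30628 (split prune prune prune)))) (merge 9 18 (split (merge 413514 444060 (merge 1 2 (merge 486 243 leaf))) (merge 413514 444060 (merge 1 2 (split leaf leaf leaf))) (merge 413514 444060 (merge 1 2 (merge 243 486 leaf)))))) (split (merge 1 2 (merge 163 83 (merge 332592 84 (split prune prune prune)))) (merge 2 1 (merge 82 164 (merge 1620 810 (split prune prune prune)))) (merge 6 3 (merge 1 2 (merge 236220 229647 (merge 4374 2187 (merge 486 243 leaf)))))) (split (merge 1 2 (merge 83 163 (merge 1620 810 (split prune prune prune)))) (merge 2 1 (merge 164 82 (merge 165 461544 (split prune prune prune))))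 (merge 3 6 (merge 2 1 (merge 416263 178613 (merge 4374 2187 (merge 486 243 leaf)))))))) (merge 2 1 (merge 6 3 (merge 18 9 (split prune prune prune)))) (merge 1 2 (merge 3 6 (merge 9 18 (split prune prune prune))))))

theorem Tr15_ok : chk 12 W1 FF1 lf1 Tr15 2 1 = true := by decide +kernel

open CT in
/-- A part of the tree. -/
def Tr16 : CT := (split (split (merge 27 54 (split (split (merge 9 18 (merge 177642 190530 (split (merge 1 2 (merge 37514 368083 leaf)) (merge 6 3 (merge 368088 332760 leaf)) (merge 2 1 (split leaf leaf leaf))))) (merge 1 2 (merge 3 6 (merge 177634 367661 (merge 6561 13122 (split prune prune prune))))) (merge 2 1 (merge 6 3 (merge 354782 183952 (merge 6561 13122 (split prune prune prune)))))) (split (merge 6 3 (merge 1 2 (merge 171321 473853 (merge 6561 13122 (merge 4374 2187 leaf))))) (merge 1 2 (merge 83 163 (merge 461545 472559 (merge 6561 13122 (split prune prune prune))))) (merge 2 1 (merge 183952 354782 (merge 413363 30628 (merge 6561 13122 (merge 2187 4374 leaf)))))) (split (merge 3 6 (merge 2 1 (merge 295267 356498 (merge 6561 13122 (merge 2187 4374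 leaf))))) (merge 1 2 (merge 367661 177634 (merge 177642 367677 (merge 6561 13122 (merge 4374 2187 leaf))))) (merge 2 1 (merge 82 164 (merge 472478 332593 (merge 6561 13122 (split prune prune prune)))))))) (merge 2 1 (merge 6 3 (merge 18 9 (merge 81 162 (merge 405 567 (split (merge 6561 13122 (split prune prune prune)) (merge 6561 13122 (split prune prune prune)) (merge 6561 13122 (merge 2187 4374 leaf)))))))) (merge 1 2 (merge 3 6 (merge 9 18 (merge 81 162 (merge 405 567 (split (merge 6561 13122 (split prune prune prune)) (merge 6561 13122 (split prune prune prune)) (merge 6561 13122 (merge 4374 2187 leaf))))))))) (split (merge 27 54 (split (split (merge 2 1 (merge 6 3 (merge 359405 60511 (split prune prune prune)))) (merge 9 18 (merge 162 81 (merge 90324 190611 (merge 2 1 (split leaf leaf leaf))))) (merge 1 2 (merge 3 6 (merge 180067 414809 (split prune prune prune))))) (split (merge 2 1 (merge 162 81 (merge 354782 183952 (split prune prune prune)))) (merge 6 3 (merge 1 2 (merge 473853 171321 (split prune prune prune)))) (merge 1 2 (merge 162 81 (merge 332594 236281 (merge 4374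 2187 (split prune prune prune)))))) (split (merge 2 1 (merge 162 81 (merge 236362 461546 (merge 4374 2187 (split prune prune prune))))) (merge 3 6 (merge 2 1 (merge 356498 295267 (split prune prune prune)))) (merge 1 2 (merge 162 81 (merge 177634 367661 (split prune prune prune))))))) (merge 2 1 (merge 6 3 (merge 18 9 (split prune prune prune)))) (merge 1 2 (merge 3 6 (merge 9 18 (split prune prune prune))))) (split (merge 27 54 (split (split (merge 1 2 (merge 3 6 (merge 414809 180067 (split prune prune prune)))) (merge 2 1 (merge 6 3 (merge 60511 359405 (split prune prune prune)))) (merge 9 18 (split (merge 413523 54765 (merge 2 1 (split leaf leaf leaf))) (merge 413523 54765 (merge 2 1 (merge 173035 413840 leaf))) (merge 413523 54765 (merge 2 1 (merge 413840 173035 leaf)))))) (split (merge 1 2 (merge 236200 8 (merge 177634 367661 (merge 2187 4374 (merge 15309 10935 leaf))))) (merge 2 1 (merge 83 163 (merge 648 324 (split prune prune prune)))) (merge 6 3 (merge 1 2 (merge 165 461544 (split prune prune prune))))) (split (merge 1 2 (merge 82 164 (merge 648 324 (split prune prune prune))))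 (merge 2 1 (merge 8 236200 (merge 354782 183952 (merge 2187 4374 (merge 10935 15309 leaf))))) (merge 3 6 (merge 2 1 (merge 168 332508 (split prune prune prune))))))) (merge 2 1 (merge 6 3 (merge 18 9 (split prune prune prune)))) (merge 1 2 (merge 3 6 (merge 9 18 (split prune prune prune))))))

theorem Tr16_ok : chk 12 W1 FF1 lf1 Tr16 2 4 = true := by decide +kernel

open CT in
/-- A part of the tree. -/
def Tr17 : CT := (split (split (merge 27 54 (split (split (merge 9 18 (split (merge 413523 54765 (merge 2 1 (merge 232076 295750 leaf))) (merge 413523 54765 (merge 2 1 (merge 295750 232076 leaf))) (merge 413523 54765 (merge 2 1 (split leaf leaf leaf))))) (merge 1 2 (merge 3 6 (merge 354319 146543 (split prune prune prune)))) (merge 2 1 (merge 6 3 (merge 411172 118121 (split prune prune prune))))) (split (merge 6 3 (merge 1 2 (merge 167 225349 (split prune prune prune)))) (merge 1 2 (merge 164 82 (merge 405 567 (split prune prune prune)))) (merge 2 1 (merge 30628 413363 (merge 367661 177634 (merge 4374 2187 (merge 10935 15309 leaf)))))) (split (merge 3 6 (merge 2 1 (merge 169 96314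 (split prune prune prune)))) (merge 1 2 (merge 295264 54686 (merge 183952 354782 (merge 4374 2187 (merge 15309 10935 leaf))))) (merge 2 1 (merge 163 83 (merge 405 567 (split prune prune prune))))))) (merge 2 1 (merge 6 3 (merge 18 9 (split prune prune prune)))) (merge 1 2 (merge 3 6 (merge 9 18 (split prune prune prune))))) (split (merge 27 54 (split (split (merge 2 1 (merge 6 3 (merge 367661 177634 (merge 2187 4374 (split prune prune prune))))) (merge 9 18 (merge 354798 361107 (split (merge 6 3 (split leaf leaf leaf)) (merge 2 1 (merge 409545 72594 leaf)) (merge 1 2 (merge 72594 409545 leaf))))) (merge 1 2 (merge 3 6 (merge 183952 354782 (merge 2187 4374 (split prune prune prune)))))) (split (merge 2 1 (merge 164 82 (merge 184114 354863 (merge 2187 4374 (split prune prune prune))))) (merge 6 3 (merge 1 2 (merge 413369 122485 (merge 2187 4374 (merge 8748 17496 leaf))))) (merge 1 2 (merge 236200 8 (merge 295734 140217 (merge 2187 4374 (merge 17496 8748 leaf)))))) (split (merge 2 1 (merge 8 236200 (merge 413363 30628 (merge 2187 4374 (merge 8748 17496 leaf))))) (merge 3 6 (merge 2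 1 (merge 236217 85308 (merge 2187 4374 (merge 17496 8748 leaf))))) (merge 1 2 (merge 163 83 (merge 367823 177715 (merge 2187 4374 (split prune prune prune)))))))) (merge 2 1 (merge 6 3 (merge 18 9 (merge 81 162 (merge 324 648 (split (merge 2187 4374 (split prune prune prune)) (merge 2187 4374 (merge 59049 118098 leaf)) (merge 2187 4374 (split prune prune prune)))))))) (merge 1 2 (merge 3 6 (merge 9 18 (merge 81 162 (merge 324 648 (split (merge 2187 4374 (split prune prune prune)) (merge 2187 4374 (merge 118098 59049 leaf)) (merge 2187 4374 (split prune prune prune))))))))) (split (merge 27 54 (split (split (merge 1 2 (merge 3 6 (merge 165 461544 (split prune prune prune)))) (merge 2 1 (merge 6 3 (merge 355759 57596 (split prune prune prune)))) (merge 9 18 (merge 81 162 (merge 361269 385497 (merge 6 3 (split leaf leaf leaf)))))) (split (merge 1 2 (merge 81 162 (merge 183952 354782 (split prune prune prune)))) (merge 2 1 (merge 81 162 (merge 367823 177715 (merge 13122 6561 (split prune prune prune))))) (merge 6 3 (merge 1 2 (merge 122485 413369 (split prune prune prune))))) (split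 (merge 1 2 (merge 81 162 (merge 184114 354863 (merge 13122 6561 (split prune prune prune))))) (merge 2 1 (merge 81 162 (merge 367661 177634 (split prune prune prune)))) (merge 3 6 (merge 2 1 (merge 85308 236217 (split prune prune prune))))))) (merge 2 1 (merge 6 3 (merge 18 9 (split prune prune prune)))) (merge 1 2 (merge 3 6 (merge 9 18 (split prune prune prune))))))

theorem Tr17_ok : chk 12 W1 FF1 lf1 Tr17 2 7 = true := by decide +kernel

/-- A part of the tree. -/
def Tr14 : CT := CT.split Tr15 Tr16 Tr17

theorem Tr14_ok : chk 12 W1 FF1 lf1 Tr14 1 1 = true :=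
  chk_split (by decide) (by decide) (by decide) Tr15_ok Tr16_ok Tr17_ok

open CT in
/-- A part of the tree. -/
def Tr19 : CT := (split (split (merge 54 27 (split (split (merge 18 9 (merge 243 486 (split (merge 3 6 (split leaf leaf leaf)) (merge 2 1 (merge 81 162 leaf)) (merge 1 2 (merge 162 81 leaf))))) (merge 1 2 (merge 3 6 (merge 413363 30628 (merge 4374 2187 (split prune prune prune))))) (merge 2 1 (merge 6 3 (merge 54686 295264 (merge 4374 2187 (split prune prune prune)))))) (split (merge 6 3 (merge 1 2 (merge 416263 178613 (merge 4374 2187 (split prune prune prune))))) (merge 1 2 (merge 243 486 (merge 271439 236686 (merge 4374 2187 (merge 13122 6561 leaf))))) (merge 2 1 (merge 243 486 (merge 54686 295264 (merge 4374 2187 (merge 13122 6561 leaf)))))) (split (merge 3 6 (merge 2 1 (merge 236220 229647 (merge 4374 2187 (split prune prune prune))))) (merge 1 2 (merge 243 486 (merge 65873 31114 (merge 4374 2187 (merge 6561 13122 leaf))))) (merge 2 1 (merge 243 486 (merge 236443 523187 (merge 4374 2187 (merge 6561 13122 leaf)))))))) (merge 2 1 (merge 6 3 (merge 18 9 (merge 729 1458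 (merge 243 486 (split (merge 4374 2187 (merge 81 162 leaf)) (merge 4374 2187 (split prune prune prune)) (merge 4374 2187 (split prune prune prune)))))))) (merge 1 2 (merge 3 6 (merge 9 18 (merge 729 1458 (merge 243 486 (split (merge 4374 2187 (merge 162 81 leaf)) (merge 4374 2187 (split prune prune prune)) (merge 4374 2187 (split prune prune prune))))))))) (split (merge 54 27 (split (split (merge 2 1 (merge 6 3 (merge 114454 178607 (split prune prune prune)))) (merge 18 9 (split (merge 444060 413514 (merge 1 2 (merge 243 486 leaf))) (merge 444060 413514 (merge 1 2 (merge 486 243 leaf))) (merge 444060 413514 (merge 1 2 (split leaf leaf leaf))))) (merge 1 2 (merge 3 6 (merge 30628 413363 (split prune prune prune))))) (split (merge 2 1 (merge 163 83 (merge 810 1620 (split prune prune prune)))) (merge 6 3 (merge 1 2 (merge 178613 416263 (merge 2187 4374 (merge 243 486 leaf))))) (merge 1 2 (merge 82 164 (merge 461544 165 (split prune prune prune))))) (split (merge 2 1 (merge 83 163 (merge 84 332592 (split prune prune prune)))) (merge 3 6 (merge 2 1 (merge 229647 236220 (merge 2187 4374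 (merge 243 486 leaf))))) (merge 1 2 (merge 164 82 (merge 810 1620 (split prune prune prune))))))) (merge 2 1 (merge 6 3 (merge 18 9 (split prune prune prune)))) (merge 1 2 (merge 3 6 (merge 9 18 (split prune prune prune))))) (split (merge 54 27 (split (split (merge 1 2 (merge 3 6 (merge 398280 118590 (split prune prune prune)))) (merge 2 1 (merge 6 3 (merge 295264 54686 (split prune prune prune)))) (merge 18 9 (merge 486 243 (merge 54765 413523 (merge 1 2 (split leaf leaf leaf)))))) (split (merge 1 2 (merge 486 243 (merge 523187 236443 (split prune prune prune)))) (merge 2 1 (merge 486 243 (merge 295264 54686 (split prune prune prune)))) (merge 6 3 (merge 1 2 (merge 391558 170 (merge 39366 19683 (split prune prune prune)))))) (split (merge 1 2 (merge 486 243 (merge 15067 503984 (split prune prune prune)))) (merge 2 1 (merge 486 243 (merge 236686 271439 (split prune prune prune)))) (merge 3 6 (merge 2 1 (merge 166301 166 (merge 39366 19683 (split prune prune prune)))))))) (merge 2 1 (merge 6 3 (merge 18 9 (split prune prune prune)))) (merge 1 2 (merge 3 6 (merge 9 18 (split prune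 prune prune))))))

theorem Tr19_ok : chk 12 W1 FF1 lf1 Tr19 2 2 = true := by decide +kernel

open CT in
/-- A part of the tree. -/
def Tr20 : CT := (split (split (merge 54 27 (split (split (merge 18 9 (split (merge 54765 413523 (merge 1 2 (merge 295750 232076 leaf))) (merge 54765 413523 (merge 1 2 (split leaf leaf leaf))) (merge 54765 413523 (merge 1 2 (merge 232076 295750 leaf))))) (merge 1 2 (merge 3 6 (merge 118121 411172 (split prune prune prune)))) (merge 2 1 (merge 6 3 (merge 146543 354319 (split prune prune prune))))) (split (merge 6 3 (merge 1 2 (merge 96314 169 (split prune prune prune)))) (merge 1 2 (merge 83 163 (merge 567 405 (split prune prune prune)))) (merge 2 1 (merge 54686 295264 (merge 354782 183952 (merge 2187 4374 (merge 10935 15309 leaf)))))) (split (merge 3 6 (merge 2 1 (merge 225349 167 (split prune prune prune)))) (merge 1 2 (merge 413363 30628 (merge 177634 367661 (merge 2187 4374 (merge 15309 10935 leaf))))) (merge 2 1 (merge 82 164 (merge 567 405 (split prune prune prune))))))) (merge 2 1 (merge 6 3 (merge 18 9 (split prune prune prune)))) (merge 1 2 (merge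 3 6 (merge 9 18 (split prune prune prune))))) (split (merge 54 27 (split (split (merge 2 1 (merge 6 3 (merge 461544 165 (split prune prune prune)))) (merge 18 9 (merge 162 81 (merge 385497 361269 (merge 2 1 (split leaf leaf leaf))))) (merge 1 2 (merge 3 6 (merge 57596 355759 (split prune prune prune))))) (split (merge 2 1 (merge 162 81 (merge 354863 184114 (merge 6561 13122 (split prune prune prune))))) (merge 6 3 (merge 1 2 (merge 236217 85308 (split prune prune prune)))) (merge 1 2 (merge 162 81 (merge 177634 367661 (split prune prune prune))))) (split (merge 2 1 (merge 162 81 (merge 354782 183952 (split prune prune prune)))) (merge 3 6 (merge 2 1 (merge 413369 122485 (split prune prune prune)))) (merge 1 2 (merge 162 81 (merge 177715 367823 (merge 6561 13122 (split prune prune prune)))))))) (merge 2 1 (merge 6 3 (merge 18 9 (split prune prune prune)))) (merge 1 2 (merge 3 6 (merge 9 18 (split prune prune prune))))) (split (merge 54 27 (split (split (merge 1 2 (merge 3 6 (merge 177634 367661 (merge 4374 2187 (split prune prune prune))))) (merge 2 1 (merge 6 3 (merge 354782 183952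 (merge 4374 2187 (split prune prune prune))))) (merge 18 9 (merge 361107 354798 (split (merge 2 1 (merge 409545 72594 leaf)) (merge 1 2 (merge 72594 409545 leaf)) (merge 3 6 (split leaf leaf leaf)))))) (split (merge 1 2 (merge 236200 8 (merge 30628 413363 (merge 4374 2187 (merge 17496 8748 leaf))))) (merge 2 1 (merge 83 163 (merge 177715 367823 (merge 4374 2187 (split prune prune prune))))) (merge 6 3 (merge 1 2 (merge 85308 236217 (merge 4374 2187 (merge 8748 17496 leaf)))))) (split (merge 1 2 (merge 82 164 (merge 354863 184114 (merge 4374 2187 (split prune prune prune))))) (merge 2 1 (merge 8 236200 (merge 140217 295734 (merge 4374 2187 (merge 8748 17496 leaf))))) (merge 3 6 (merge 2 1 (merge 122485 413369 (merge 4374 2187 (merge 17496 8748 leaf)))))))) (merge 2 1 (merge 6 3 (merge 18 9 (merge 162 81 (merge 648 324 (split (merge 4374 2187 (split prune prune prune)) (merge 4374 2187 (merge 59049 118098 leaf)) (merge 4374 2187 (split prune prune prune)))))))) (merge 1 2 (merge 3 6 (merge 9 18 (merge 162 81 (merge 648 324 (split (merge 4374 2187 (split prune prune prune)) (merge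 4374 2187 (merge 118098 59049 leaf)) (merge 4374 2187 (split prune prune prune))))))))))

theorem Tr20_ok : chk 12 W1 FF1 lf1 Tr20 2 5 = true := by decide +kernel

open CT in
/-- A part of the tree. -/
def Tr21 : CT := (split (split (merge 54 27 (split (split (merge 18 9 (merge 190530 177642 (split (merge 2 1 (merge 368083 37514 leaf)) (merge 1 2 (split leaf leaf leaf)) (merge 3 6 (merge 332760 368088 leaf))))) (merge 1 2 (merge 3 6 (merge 183952 354782 (merge 13122 6561 (split prune prune prune))))) (merge 2 1 (merge 6 3 (merge 367661 177634 (merge 13122 6561 (split prune prune prune)))))) (split (merge 6 3 (merge 1 2 (merge 356498 295267 (merge 13122 6561 (merge 4374 2187 leaf))))) (merge 1 2 (merge 164 82 (merge 332593 472478 (merge 13122 6561 (split prune prune prune))))) (merge 2 1 (merge 177634 367661 (merge 367677 177642 (merge 13122 6561 (merge 2187 4374 leaf)))))) (split (merge 3 6 (merge 2 1 (merge 473853 171321 (merge 13122 6561 (merge 2187 4374 leaf))))) (merge 1 2 (merge 354782 183952 (merge 30628 413363 (merge 13122 6561 (merge 4374 2187 leaf))))) (merge 2 1 (merge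 163 83 (merge 472559 461545 (merge 13122 6561 (split prune prune prune)))))))) (merge 2 1 (merge 6 3 (merge 18 9 (merge 162 81 (merge 567 405 (split (merge 13122 6561 (split prune prune prune)) (merge 13122 6561 (merge 2187 4374 leaf)) (merge 13122 6561 (split prune prune prune)))))))) (merge 1 2 (merge 3 6 (merge 9 18 (merge 162 81 (merge 567 405 (split (merge 13122 6561 (split prune prune prune)) (merge 13122 6561 (merge 4374 2187 leaf)) (merge 13122 6561 (split prune prune prune))))))))) (split (merge 54 27 (split (split (merge 2 1 (merge 6 3 (merge 180067 414809 (split prune prune prune)))) (merge 18 9 (split (merge 54765 413523 (merge 3 6 (split leaf leaf leaf))) (merge 54765 413523 (merge 4374 2187 (merge 194904 416025 leaf))) (merge 54765 413523 (merge 6 3 (merge 295743 363309 leaf))))) (merge 1 2 (merge 3 6 (merge 359405 60511 (split prune prune prune))))) (split (merge 2 1 (merge 164 82 (merge 324 648 (split prune prune prune)))) (merge 6 3 (merge 1 2 (merge 332508 168 (split prune prune prune)))) (merge 1 2 (merge 236200 8 (merge 183952 354782 (merge 4374 2187 (merge 15309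 10935 leaf)))))) (split (merge 2 1 (merge 8 236200 (merge 367661 177634 (merge 4374 2187 (merge 10935 15309 leaf))))) (merge 3 6 (merge 2 1 (merge 461544 165 (split prune prune prune)))) (merge 1 2 (merge 163 83 (merge 324 648 (split prune prune prune))))))) (merge 2 1 (merge 6 3 (merge 18 9 (split prune prune prune)))) (merge 1 2 (merge 3 6 (merge 9 18 (split prune prune prune))))) (split (merge 54 27 (split (split (merge 1 2 (merge 3 6 (merge 60511 359405 (split prune prune prune)))) (merge 2 1 (merge 6 3 (merge 414809 180067 (split prune prune prune)))) (merge 18 9 (merge 81 162 (merge 190611 90324 (merge 3 6 (split leaf leaf leaf)))))) (split (merge 1 2 (merge 81 162 (merge 461546 236362 (merge 2187 4374 (split prune prune prune))))) (merge 2 1 (merge 81 162 (merge 367661 177634 (split prune prune prune)))) (merge 6 3 (merge 1 2 (merge 295267 356498 (split prune prune prune))))) (split (merge 1 2 (merge 81 162 (merge 183952 354782 (split prune prune prune)))) (merge 2 1 (merge 81 162 (merge 236281 332594 (merge 2187 4374 (split prune prune prune))))) (merge 3 6 (merge 2 1 (merge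 171321 473853 (split prune prune prune))))))) (merge 2 1 (merge 6 3 (merge 18 9 (split prune prune prune)))) (merge 1 2 (merge 3 6 (merge 9 18 (split prune prune prune))))))

theorem Tr21_ok : chk 12 W1 FF1 lf1 Tr21 2 8 = true := by decide +kernel

/-- A part of the tree. -/
def Tr18 : CT := CT.split Tr19 Tr20 Tr21

theorem Tr18_ok : chk 12 W1 FF1 lf1 Tr18 1 2 = true :=
  chk_split (by decide) (by decide) (by decide) Tr19_ok Tr20_ok Tr21_ok

/-- A part of the tree. -/
def Tr0 : CT := CT.split Tr1 Tr14 Tr18

theorem Tr0_ok : chk 12 W1 FF1 lf1 Tr0 0 0 = true :=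
  chk_split (by decide) (by decide) (by decide) Tr1_ok Tr14_ok Tr18_ok

theorem tree_ok : chk 12 W1 FF1 lf1 Tr0 0 0 = true := Tr0_ok

end Cfsg.Agent.Lib.Fischer.M23.R3.O8C
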